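import Cfsg.Agent.H198.FC.Defs

/-!
# S5764, `StmtC2`: stabilizers of decompositions (helper393)
-/

set_option autoImplicit false

namespace Cfsg.Agent.H393.FC

open Cfsg.Agent.H198.FC

universe u v

/-! ### rings with a complete set of orthogonal idempotents and a shift -/

section ring

variable {A : Type*} [Ring A] {k : ℕ} {e : Fin k → A} {h : A}

/-- `h` maps the block `j` to the block `j + 1`, not trivially -/
structure Shift (e : Fin k → A) (h : A) : Prop where
  idem : ∀ i, e i * e i = e i
  orth : ∀ i j, i ≠ j → e i * e j = 0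
  sum : ∑ i, e i = 1
  ne : ∀ i, e i ≠ 0
  h0 : ∀ i j : Fin k, (i : ℕ) ≠ j + 1 → e i * h * e j = 0
  h1 : ∀ i j : Fin k, (i : ℕ) = j + 1 → e i * h * e j ≠ 0
  h2 : ∀ i j l : Fin k, (i : ℕ) = j + 1 → (j : ℕ) = l + 1 → e i * h * e j * h * e l ≠ 0

theorem Shift.ext (H : Shift e h) {a b : A} (hab : ∀ i, a * e i = b * e i) : a = b := by
  calc a = a * ∑ i, e i := by rw [H.sum, mul_one]
    _ = b * ∑ i, e i := by rw [Finset.mul_sum, Finset.mul_sum]; exact Finset.sum_congr rfl fun i _ => hab i
    _ = b := by rw [H.sum, mul_one]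

theorem Shift.ext' (H : Shift e h) {a b : A} (hab : ∀ i, e i * a = e i * b) : a = b := by
  calc a = (∑ i, e i) * a := by rw [H.sum, one_mul]
    _ = (∑ i, e i) * b := by rw [Finset.sum_mul, Finset.sum_mul]; exact Finset.sum_congr rfl fun i _ => hab i
    _ = b := by rw [H.sum, one_mul]

theorem Shift.col (H : Shift e h) {i j : Fin k} (hij : (i : ℕ) = j + 1) : h * e j = e i * (h * e j) := by
  refine H.ext' fun l => ?_
  by_cases hl : l = i
  · rw [hl, ← mul_assoc (e i) (e i), H.idem]
  · rw [← mul_assoc (e l) (e i), H.orth l i hl, zero_mul, ← mul_assoc]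
    exact H.h0 l j fun h => hl (Fin.ext (h.trans hij.symm))

theorem Shift.col_last (H : Shift e h) {j : Fin k} (hj : (j : ℕ) + 1 = k) : h * e j = 0 := by
  refine H.ext' fun l => ?_
  rw [mul_zero, ← mul_assoc]
  exact H.h0 l j (by have := l.2; omega)

theorem Shift.row (H : Shift e h) {i j : Fin k} (hij : (i : ℕ) = j + 1) : e i * h = e i * h * e j := by
  refine H.ext fun l => ?_
  by_cases hl : l = j
  · rw [hl, mul_assoc (e i * h), H.idem]
  · rw [mul_assoc (e i * h) (e j), H.orth j l (fun h => hl h.symm), mul_zero]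
    exact H.h0 i l fun h => hl (Fin.ext (by omega))

theorem Shift.row_first (H : Shift e h) {i : Fin k} (hi : (i : ℕ) = 0) : e i * h = 0 := by
  refine H.ext fun l => ?_
  rw [zero_mul]
  exact H.h0 i l (by omega)

theorem Shift.pow (H : Shift e h) (m : ℕ) : ∀ i j : Fin k, (i : ℕ) ≠ j + m → e i * h ^ m * e j = 0 := by
  induction m with
  | zero =>
    intro i j hij
    rw [pow_zero, mul_one]
    exact H.orth i j fun h => hij (by rw [h]; omega)
  | succ m ih =>
    intro i j hij
    rw [pow_succ, ← mul_assoc, mul_assoc _ h]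
    by_cases hj : (j : ℕ) + 1 < k
    · rw [H.col (i := ⟨j + 1, hj⟩) rfl, ← mul_assoc, ih i ⟨j + 1, hj⟩ (by simpa [add_assoc, add_comm 1 m] using hij),
        zero_mul]
    · rw [H.col_last (by have := j.2; omega), mul_zero]

theorem Shift.isNilpotent (H : Shift e h) : IsNilpotent h := by
  refine ⟨k, H.ext' fun i => ?_⟩
  rw [mul_zero]
  refine H.ext fun j => ?_
  rw [zero_mul]
  exact H.pow k i j (by have := i.2; omega)

/-- **automorphisms** -/
theorem Shift.aut (H : Shift e h) {f : A → A} (hf : Function.Injective f) (hadd : ∀ X Y, f (X + Y) = f X + f Y)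
    (hmul : ∀ X Y, f (X * Y) = f X * f Y) (h1 : f 1 = 1) {π ρ : Equiv.Perm (Fin k)} (hπ : ∀ i, f (e i) = e (π i)) {m : A}
    (hm : m * f (1 + h) = 1 + h) (hρ : ∀ j, m * e j = e (ρ j) * m) :
    (∀ i, f (e i) = e i) ∧ f h = h := by
  have hf0 : f 0 = 0 := by
    have := hadd 0 0
    rw [add_zero] at this
    exact left_eq_add.1 this
  rw [hadd, h1] at hm
  have key : ∀ n : ℕ, ∀ j : Fin k, k ≤ j + n → π j = j ∧ m * e j = e j ∧ f h * e j = h * e j := by
    intro n
    induction n with
    | zero => intro j hj; have := j.2; omega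
    | succ n ih =>
      intro j hj
      by_cases hjn : k ≤ j + n
      · exact ih j hjn
      have hjn' : (j : ℕ) + n + 1 = k := by omega
      have ih' : ∀ i : Fin k, j < i → π i = i ∧ m * e i = e i ∧ f h * e i = h * e i := fun i hi =>
        ih i (by have : (j : ℕ) < i := hi; omega)
      obtain ⟨p, hp⟩ : ∃ p, p = π j := ⟨_, rfl⟩
      have hpj : p ≤ j := by
        by_contra hcon
        push Not at hcon
        have h2 := (ih' p hcon).1
        have h3 : p = j := π.injective (h2.trans hp)
        exact absurd h3 hcon.ne'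
      -- `m f(h) e_p = f(h) e_p`
      have hfh : f h * e p = f (h * e j) := by rw [hmul, hπ, ← hp]
      have hmf : m * (f h * e p) = f h * e p ∧ e p * (f h * e p) = 0 := by
        rw [hfh]
        by_cases hlast : (j : ℕ) + 1 = k
        · rw [H.col_last hlast, hf0, mul_zero, mul_zero]
          exact ⟨rfl, rfl⟩
        · have hjk : (j : ℕ) + 1 < k := by have := j.2; omega
          have hlt : j < (⟨j + 1, hjk⟩ : Fin k) := Fin.lt_def.2 (Nat.lt_succ_self _)
          obtain ⟨h2, h3, -⟩ := ih' ⟨j + 1, hjk⟩ hlt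
          rw [H.col (i := ⟨j + 1, hjk⟩) rfl, hmul, hπ, h2]
          constructor
          · rw [← mul_assoc, h3]
          · rw [← mul_assoc, H.orth p _ (fun h => absurd (by rw [← h]; exact hpj) (not_le.2 hlt)), zero_mul]
      have hI : m * e p + f h * e p = e p + h * e p := by
        have h2 := congrArg (· * e p) hm
        simp only [mul_add, mul_one, add_mul, one_mul] at h2
        rw [mul_assoc m (f h) (e p), hmf.1] at h2
        exact h2
      have hpp : e p * m * e p = e p := by
        have h2 := congrArg (e p * ·) hI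
        simp only [mul_add] at h2
        rw [hmf.2, add_zero, H.idem, ← mul_assoc, ← mul_assoc, H.h0 p p (by omega), add_zero] at h2
        exact h2
      have hmp : m * e p = e p := by
        have h2 : ρ p = p := by
          by_contra hne
          have h3 : e p * m * e p = 0 := by
            rw [mul_assoc, hρ, ← mul_assoc, H.orth p _ (fun h => hne h.symm), zero_mul]
          rw [hpp] at h3
          exact H.ne p h3
        have h3 := hρ p
        rw [h2] at h3
        calc m * e p = m * e p * e p := by rw [mul_assoc, H.idem]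
          _ = e p := by rw [h3, hpp]
      have hhp : f h * e p = h * e p := by
        rw [hmp] at hI
        exact add_left_cancel hI
      have hpj' : p = j := by
        by_cases hlast : (j : ℕ) + 1 = k
        · by_contra hne
          have hplt : (p : ℕ) + 1 < k := by
            have h2 : (p : ℕ) ≤ j := hpj
            have h3 : (p : ℕ) ≠ j := fun h => hne (Fin.ext h)
            omega
          apply H.h1 ⟨p + 1, hplt⟩ p rfl
          rw [mul_assoc, ← hhp, hfh, H.col_last hlast, hf0, mul_zero]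
        · have hjk : (j : ℕ) + 1 < k := by have := j.2; omega
          have hlt : j < (⟨j + 1, hjk⟩ : Fin k) := Fin.lt_def.2 (Nat.lt_succ_self _)
          obtain ⟨h2, h3, -⟩ := ih' ⟨j + 1, hjk⟩ hlt
          by_contra hne
          have h4 : f (h * e j) = 0 := by
            rw [H.col (i := ⟨j + 1, hjk⟩) rfl, hmul, hπ, h2, ← hfh, hhp, ← mul_assoc]
            exact H.h0 _ p fun h => hne (Fin.ext (by simpa using h.symm))
          have h5 : h * e j = 0 := hf (by rw [h4, hf0])
          apply H.h1 ⟨j + 1, hjk⟩ j rfl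
          rw [mul_assoc, h5, mul_zero]
      rw [hpj'] at hp hmp hhp
      exact ⟨hp.symm, hmp, hhp⟩
  have hall := fun j : Fin k => key k j (by omega)
  exact ⟨fun i => by rw [hπ, (hall i).1], H.ext fun j => (hall j).2.2⟩

/-- **anti-automorphisms** -/
theorem Shift.anti (H : Shift e h) {f : A → A} (hadd : ∀ X Y, f (X + Y) = f X + f Y)
    (hinj : Function.Injective f)
    (hmul : ∀ X Y, f (X * Y) = f Y * f X) (h1 : f 1 = 1) {π ρ : Equiv.Perm (Fin k)} (hπ : ∀ i, f (e i) = e (π i)) {m : A}
    (hm : (1 + h) * f (1 + h) = m) (hρ : ∀ j, m * e j = e (ρ j) * m) (h2k : 2 ≤ k) :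
    k = 2 ∧ f h = - h ∧ ∀ i, π i ≠ i := by
  have hf0 : f 0 = 0 := by
    have := hadd 0 0
    rw [add_zero] at this
    exact left_eq_add.1 this
  rw [hadd, h1] at hm
  obtain ⟨z, hz⟩ : ∃ z : Fin k, (z : ℕ) = 0 := ⟨⟨0, by omega⟩, rfl⟩
  obtain ⟨t, ht⟩ : ∃ t : Fin k, (t : ℕ) + 1 = k := ⟨⟨k - 1, by omega⟩, by simp; omega⟩
  obtain ⟨s, hs⟩ : ∃ s : Fin k, (t : ℕ) = s + 1 := ⟨⟨k - 2, by omega⟩, by simp; omega⟩
  have hzh : e z * h = 0 := H.row_first hz
  have hzm : e z * m = e z + e z * f h := by
    rw [← hm, ← mul_assoc, mul_add (e z), mul_one, hzh, add_zero, mul_add, mul_one]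
  -- diagonal blocks
  have hdiag : ∀ i, e i * f h * e i = 0 := by
    intro i
    obtain ⟨j, rfl⟩ := π.surjective i
    rw [← hπ, mul_assoc, ← hmul, ← hmul, H.h0 j j (by omega), hf0]
  have hzmz : e z * m * e z = e z := by rw [hzm, add_mul, H.idem, hdiag, add_zero]
  have hρz : ρ z = z := by
    by_contra hne
    have h3 : e z * m * e z = 0 := by
      rw [mul_assoc, hρ, ← mul_assoc, H.orth z _ (fun h => hne h.symm), zero_mul]
    rw [hzmz] at h3
    exact H.ne z h3
  have hcomm : m * e z = e z * m := by rw [hρ, hρz]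
  have hmz : m * e z = e z := by
    calc m * e z = m * e z * e z := by rw [mul_assoc, H.idem]
      _ = e z := by rw [hcomm, hzmz]
  have hzf : e z * f h = 0 := by
    have h3 : e z * m = e z := by rw [← hcomm, hmz]
    rw [hzm] at h3
    exact left_eq_add.1 h3.symm
  -- `π t = z`
  have hπt : π t = z := by
    obtain ⟨i, hi⟩ := π.surjective z
    have h3 : f (h * e i) = 0 := by rw [hmul, hπ, hi, hzf]
    have h4 : h * e i = 0 := hinj (by rw [h3, hf0])
    have h5 : (i : ℕ) + 1 = k := by
      by_contra hne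
      have hik : (i : ℕ) + 1 < k := by have := i.2; omega
      apply H.h1 ⟨i + 1, hik⟩ i rfl
      rw [mul_assoc, h4, mul_zero]
    rw [← hi]
    congr 1
    exact Fin.ext (by omega)
  obtain ⟨r, hr⟩ : ∃ r, r = π s := ⟨_, rfl⟩
  have hrz : r ≠ z := by
    intro h3
    have h4 : π s = π t := by rw [← hr, h3, hπt]
    have h5 : (s : ℕ) = t := congrArg (fun i : Fin k => (i : ℕ)) (π.injective h4)
    omega
  have hfz : f h * e z = f (e t * h) := by rw [hmul, hπ, hπt]
  have hfz' : f h * e z = e r * (f h * e z) := by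
    rw [hfz, H.row hs, hmul, hπ, ← hr, ← mul_assoc, H.idem]
  have hfz0 : f h * e z ≠ 0 := by
    rw [hfz]
    intro h3
    have h4 : e t * h = 0 := hinj (by rw [h3, hf0])
    apply H.h1 t s hs
    rw [h4, zero_mul]
  have hI : f h * e z + h * e z + h * (f h * e z) = 0 := by
    have h3 := hmz
    rw [← hm] at h3
    have h4 : (1 + h) * (1 + f h) * e z = e z + (f h * e z + h * e z + h * (f h * e z)) := by noncomm_ring
    rw [h4] at h3
    exact left_eq_add.1 h3.symm
  have hrow : f h * e z + e r * h * e z = 0 := by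
    have h3 := congrArg (e r * ·) hI
    simp only [mul_add, mul_zero] at h3
    rw [← hfz'] at h3
    have h4 : e r * (h * (f h * e z)) = 0 := by
      rw [hfz', ← mul_assoc, ← mul_assoc, H.h0 r r (by omega), zero_mul]
    rw [h4, add_zero, ← mul_assoc] at h3
    exact h3
  have hr1 : (r : ℕ) = z + 1 := by
    by_contra hne
    rw [H.h0 r z hne, add_zero] at hrow
    exact hfz0 hrow
  have hcol : e r * h * e z = h * e z := by rw [mul_assoc, ← H.col hr1]
  rw [hcol] at hrow
  have hneg : f h * e z = -(h * e z) := eq_neg_of_add_eq_zero_left hrow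
  have hk2 : k = 2 := by
    by_contra hne
    have h3 : h * (h * e z) = 0 := by
      rw [hneg] at hI
      have h4 : -(h * e z) + h * e z + h * -(h * e z) = -(h * (h * e z)) := by noncomm_ring
      rw [h4, neg_eq_zero] at hI
      exact hI
    have hlt : (r : ℕ) + 1 < k := by omega
    apply H.h2 ⟨r + 1, hlt⟩ r z rfl hr1
    rw [mul_assoc, mul_assoc, mul_assoc, ← mul_assoc (e r), hcol, h3, mul_zero]
  refine ⟨hk2, ?_, ?_⟩
  · refine H.ext fun i => ?_
    by_cases hi : i = z
    · rw [hi, hneg, neg_mul]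
    · have h3 : i = r := Fin.ext (by
        have h4 : (i : ℕ) ≠ z := fun h => hi (Fin.ext h)
        have := i.2
        omega)
      have h5 : s = z := Fin.ext (by omega)
      rw [h3, neg_mul, H.col_last (j := r) (by omega), neg_zero, hr, ← hπ, ← hmul, h5, hzh, hf0]
  · intro i hi
    have h5 : s = z := Fin.ext (by omega)
    by_cases h6 : i = z
    · rw [h6, ← h5, ← hr, h5] at hi
      exact hrz hi
    · have h3 : i = t := Fin.ext (by
        have h4 : (i : ℕ) ≠ z := fun h => h6 (Fin.ext h)
        have := i.2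
        omega)
      rw [h3, hπt] at hi
      exact h6 (by rw [h3, ← hi])

end ring

/-! ### determinants of unipotent maps -/

theorem pow_eq_one_of_nilpotent {K V : Type*} [Field K] [AddCommGroup V] [Module K V] {p : ℕ} [hp : Fact p.Prime]
    [CharP K p] (g : V →ₗ[K] V) {k : ℕ} (h : (g - 1) ^ k = 0) : g ^ p ^ k = 1 := by
  have : CharP (V →ₗ[K] V) p ∨ Subsingleton V := by
    rcases subsingleton_or_nontrivial V with h | h
    · exact Or.inr h
    · left
      exact charP_of_injective_algebraMap (algebraMap K (Module.End K V)).injective p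
  rcases this with hc | hs
  · have := hc
    have h1 : g = 1 + (g - 1) := by abel
    have h2 : Commute (1 : V →ₗ[K] V) (g - 1) := Commute.one_left _
    have h3 : (1 + (g - 1)) ^ p ^ k = 1 ^ p ^ k + (g - 1) ^ p ^ k := add_pow_char_pow_of_commute p k h2
    rw [h1, h3, one_pow]
    have h4 : (g - 1) ^ p ^ k = 0 := by
      have hk : k ≤ p ^ k := (Nat.lt_pow_self hp.out.one_lt).le
      rw [← Nat.sub_add_cancel hk, pow_add, h, mul_zero]
    rw [h4, add_zero]
  · ext x
    exact Subsingleton.elim _ _

theorem det_one_add {K V : Type*} [Field K] [Finite K] [AddCommGroup V] [Module K V] {h : R K V}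
    (hn : IsNilpotent h) : LinearMap.det (1 + h : R K V) = 1 := by
  obtain ⟨k, hk⟩ := hn
  obtain ⟨p, hp⟩ := CharP.exists K
  have := hp
  have : Fact p.Prime := ⟨CharP.char_is_prime K p⟩
  have h1 := pow_eq_one_of_nilpotent (p := p) (k := k) (1 + h : R K V) (by rw [add_sub_cancel_left]; exact hk)
  have h2 := congrArg LinearMap.det h1
  rw [map_pow, map_one] at h2
  have h3 : (LinearMap.det (1 + h : R K V)) ^ (p ^ k * 1) = 1 := by rw [mul_one]; exact h2
  have h4 := (ExpChar.pow_prime_pow_mul_eq_one_iff p k 1 (LinearMap.det (1 + h : R K V))).mp h3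
  simpa using h4

/-! ### decompositions and matrix units -/

section dec

variable {K : Type u} [Field K] {V : Type v} [AddCommGroup V] [Module K V] {k d : ℕ}

/-- coordinates of the blocks -/
structure Dec (e : Fin k → R K V) (inc : Fin k → (Fin d → K) →ₗ[K] V) (prj : Fin k → V →ₗ[K] (Fin d → K)) : Prop where
  ip : ∀ i, inc i ∘ₗ prj i = e i
  pi : ∀ i, prj i ∘ₗ inc i = LinearMap.id
  pij : ∀ i j, i ≠ j → prj i ∘ₗ inc j = 0
  sum : ∑ i, e i = 1

theorem exists_dec [Module.Finite K V] {e : Fin k → R K V} (he : CompleteOrthogonalIdempotents e)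
    (hd : ∀ i, Module.finrank K (LinearMap.range (e i)) = d) :
    ∃ (inc : Fin k → (Fin d → K) →ₗ[K] V) (prj : Fin k → V →ₗ[K] (Fin d → K)), Dec e inc prj := by
  have u : ∀ i, LinearMap.range (e i) ≃ₗ[K] (Fin d → K) := fun i =>
    LinearEquiv.ofFinrankEq _ _ (by rw [hd, Module.finrank_fin_fun])
  have hidem : ∀ i v, e i (e i v) = e i v := fun i v => by
    have := congrArg (fun T : R K V => T v) (he.idem i)
    simpa using this
  have hfix : ∀ i, ∀ y : LinearMap.range (e i), e i y = y := by
    rintro i ⟨_, v, rfl⟩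
    exact hidem i v
  refine ⟨fun i => (LinearMap.range (e i)).subtype ∘ₗ (u i).symm.toLinearMap,
    fun i => (u i).toLinearMap ∘ₗ (e i).rangeRestrict, ?_, ?_, ?_, he.complete⟩
  · intro i
    ext v
    simp
  · intro i
    apply LinearMap.ext
    intro w
    have : (e i).rangeRestrict ((u i).symm w) = (u i).symm w := Subtype.ext (hfix i _)
    simp only [LinearMap.comp_apply, LinearEquiv.coe_coe, Submodule.subtype_apply, LinearMap.id_apply]
    rw [this, LinearEquiv.apply_symm_apply]
  · intro i j hij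
    apply LinearMap.ext
    intro w
    have h0 : e i ((u j).symm w) = 0 := by
      rw [← hfix j]
      have := congrArg (fun T : R K V => T ((u j).symm w)) (he.ortho hij)
      simpa using this
    have : (e i).rangeRestrict ((u j).symm w) = 0 := Subtype.ext h0
    simp only [LinearMap.comp_apply, LinearEquiv.coe_coe, Submodule.subtype_apply, LinearMap.zero_apply]
    rw [this, map_zero]

variable {e : Fin k → R K V} {inc : Fin k → (Fin d → K) →ₗ[K] V} {prj : Fin k → V →ₗ[K] (Fin d → K)}

/-- matrix units with coefficients in `M_d(K)` -/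
noncomputable def E (inc : Fin k → (Fin d → K) →ₗ[K] V) (prj : Fin k → V →ₗ[K] (Fin d → K)) (i j : Fin k)
    (T : Matrix (Fin d) (Fin d) K) : R K V := inc i ∘ₗ Matrix.toLin' T ∘ₗ prj j

theorem Dec.e_eq (D : Dec e inc prj) (i : Fin k) : E inc prj i i 1 = e i := by
  rw [E, Matrix.toLin'_one, LinearMap.id_comp, D.ip]

theorem Dec.mul (D : Dec e inc prj) (i j l : Fin k) (S T : Matrix (Fin d) (Fin d) K) :
    E inc prj i j S * E inc prj j l T = E inc prj i l (S * T) := by
  apply LinearMap.ext
  intro v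
  have h1 := congrArg (fun f : (Fin d → K) →ₗ[K] (Fin d → K) => f (Matrix.toLin' T (prj l v))) (D.pi j)
  simp only [LinearMap.comp_apply, LinearMap.id_apply] at h1
  simp only [E, Module.End.mul_apply, LinearMap.comp_apply, Matrix.toLin'_mul]
  rw [h1]

theorem Dec.mul_ne (D : Dec e inc prj) (i : Fin k) {j j' : Fin k} (hj : j ≠ j') (l : Fin k) (S T : Matrix (Fin d) (Fin d) K) :
    E inc prj i j S * E inc prj j' l T = 0 := by
  apply LinearMap.ext
  intro v
  have h1 := congrArg (fun f : (Fin d → K) →ₗ[K] (Fin d → K) => f (Matrix.toLin' T (prj l v))) (D.pij j j' hj)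
  simp only [LinearMap.comp_apply, LinearMap.zero_apply] at h1
  simp only [E, Module.End.mul_apply, LinearMap.comp_apply, LinearMap.zero_apply]
  rw [h1, map_zero, map_zero]

theorem E_add (i j : Fin k) (S T : Matrix (Fin d) (Fin d) K) :
    E inc prj i j (S + T) = E inc prj i j S + E inc prj i j T := by
  apply LinearMap.ext
  intro v
  simp [E]

theorem E_neg (i j : Fin k) (T : Matrix (Fin d) (Fin d) K) :
    E inc prj i j (-T) = - E inc prj i j T := by
  apply LinearMap.ext
  intro v
  simp [E]

theorem E_zero (i j : Fin k) : E inc prj i j 0 = 0 := by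
  apply LinearMap.ext
  intro v
  simp [E]

theorem Dec.inj (D : Dec e inc prj) (i j : Fin k) {S T : Matrix (Fin d) (Fin d) K}
    (h : E inc prj i j S = E inc prj i j T) : S = T := by
  apply Matrix.toLin'.injective
  apply LinearMap.ext
  intro w
  have hpi : ∀ (i : Fin k) (w : Fin d → K), prj i (inc i w) = w := by
    intro i w
    exact congrArg (fun f : (Fin d → K) →ₗ[K] (Fin d → K) => f w) (D.pi i)
  have h1 := congrArg (fun f : R K V => prj i (f (inc j w))) h
  simp only [E, LinearMap.comp_apply] at h1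
  rwa [hpi, hpi, hpi] at h1

theorem Dec.block (D : Dec e inc prj) (i j : Fin k) (Z : R K V) :
    e i * Z * e j = E inc prj i j (LinearMap.toMatrix' (prj i ∘ₗ Z ∘ₗ inc j)) := by
  rw [E, Matrix.toLin'_toMatrix', ← D.ip, ← D.ip]
  rfl

/-- the shift with first coefficient `T` -/
noncomputable def sh (inc : Fin k → (Fin d → K) →ₗ[K] V) (prj : Fin k → V →ₗ[K] (Fin d → K))
    (T : Matrix (Fin d) (Fin d) K) : R K V :=
  ∑ j : Fin k, if hj : (j : ℕ) + 1 < k then E inc prj ⟨j + 1, hj⟩ j (if (j : ℕ) = 0 then T else 1) else 0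

theorem Dec.e_mul (D : Dec e inc prj) (i j l : Fin k) (T : Matrix (Fin d) (Fin d) K) :
    e i * E inc prj j l T = if i = j then E inc prj j l T else 0 := by
  rw [← D.e_eq]
  by_cases hij : i = j
  · rw [if_pos hij, hij, D.mul, one_mul]
  · rw [if_neg hij, D.mul_ne i hij]

theorem Dec.mul_e (D : Dec e inc prj) (i j l : Fin k) (T : Matrix (Fin d) (Fin d) K) :
    E inc prj j l T * e i = if l = i then E inc prj j l T else 0 := by
  rw [← D.e_eq]
  by_cases hij : l = i
  · rw [if_pos hij, hij, D.mul, mul_one]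
  · rw [if_neg hij, D.mul_ne j hij]

theorem Dec.blk (D : Dec e inc prj) (T : Matrix (Fin d) (Fin d) K) (i j : Fin k) :
    e i * sh inc prj T * e j = if (i : ℕ) = j + 1 then E inc prj i j (if (j : ℕ) = 0 then T else 1) else 0 := by
  rw [sh, Finset.mul_sum, Finset.sum_mul, Finset.sum_eq_single j]
  · by_cases hj : (j : ℕ) + 1 < k
    · rw [dif_pos hj, D.e_mul]
      by_cases hij : (i : ℕ) = j + 1
      · have h1 : i = ⟨j + 1, hj⟩ := Fin.ext hij
        rw [if_pos h1, if_pos hij, D.mul_e, if_pos rfl, ← h1]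
      · rw [if_neg (fun h => hij (congrArg (fun i : Fin k => (i : ℕ)) h)), if_neg hij, zero_mul]
    · rw [dif_neg hj, mul_zero, zero_mul, if_neg]
      have := i.2
      omega
  · intro l _ hl
    by_cases hj : (l : ℕ) + 1 < k
    · rw [dif_pos hj, mul_assoc, D.mul_e, if_neg hl, mul_zero]
    · rw [dif_neg hj, mul_zero, zero_mul]
  · intro h
    exact absurd (Finset.mem_univ _) h

theorem Dec.ne_zero (D : Dec e inc prj) (i j : Fin k) {T : Matrix (Fin d) (Fin d) K} (hT : T ≠ 0) :
    E inc prj i j T ≠ 0 := fun h => hT (D.inj i j (by rw [h, E_zero]))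

theorem Dec.shift (D : Dec e inc prj) (hd : 1 ≤ d) {T : Matrix (Fin d) (Fin d) K} (hT : T ≠ 0) :
    Shift e (sh inc prj T) where
  idem i := by rw [← D.e_eq, D.mul, one_mul]
  orth i j hij := by rw [← D.e_eq, ← D.e_eq, D.mul_ne i hij]
  sum := D.sum
  ne i := by
    have : Nonempty (Fin d) := ⟨⟨0, hd⟩⟩
    rw [← D.e_eq]
    exact D.ne_zero i i one_ne_zero
  h0 i j hij := by rw [D.blk, if_neg hij]
  h1 i j hij := by
    have : Nonempty (Fin d) := ⟨⟨0, hd⟩⟩
    rw [D.blk, if_pos hij]
    refine D.ne_zero i j ?_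
    split
    · exact hT
    · exact one_ne_zero
  h2 i j l hij hjl := by
    have : Nonempty (Fin d) := ⟨⟨0, hd⟩⟩
    have hjj : e j = e j * e j := by rw [← D.e_eq, D.mul, one_mul]
    have h1 : e i * sh inc prj T * e j * sh inc prj T * e l =
        (e i * sh inc prj T * e j) * (e j * sh inc prj T * e l) := by
      conv_lhs => rw [hjj]
      simp only [mul_assoc]
    rw [h1, D.blk, D.blk, if_pos hij, if_pos hjl, D.mul]
    refine D.ne_zero i l ?_
    rw [if_neg (show ¬ (j : ℕ) = 0 by omega), one_mul]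
    split
    · exact hT
    · exact one_ne_zero

/-- **rigidity** -/
theorem Dec.rigid (D : Dec e inc prj) (hk : 2 ≤ k) {f : R K V → R K V} (hadd : ∀ X Y, f (X + Y) = f X + f Y)
    (hmul : ∀ X Y, f (X * Y) = f X * f Y) (he : ∀ i, f (e i) = e i) {X Y : Matrix (Fin d) (Fin d) K}
    (h1 : f (sh inc prj 1) = sh inc prj 1) (hX : f (sh inc prj X) = sh inc prj X) (hY : f (sh inc prj Y) = sh inc prj Y)
    (hgen : Subring.closure {X, Y} = ⊤) (Z : R K V) : f Z = Z := by
  have hf0 : f 0 = 0 := by
    have := hadd 0 0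
    rw [add_zero] at this
    exact left_eq_add.1 this
  have hneg : ∀ Z, f (-Z) = - f Z := by
    intro Z
    have h2 := hadd (-Z) Z
    rw [neg_add_cancel, hf0] at h2
    exact eq_neg_of_add_eq_zero_left h2.symm
  have hblk : ∀ (T : Matrix (Fin d) (Fin d) K) (i j : Fin k), f (sh inc prj T) = sh inc prj T → (i : ℕ) = j + 1 →
      f (E inc prj i j (if (j : ℕ) = 0 then T else 1)) = E inc prj i j (if (j : ℕ) = 0 then T else 1) := by
    intro T i j hT hij
    have h2 := D.blk T i j
    rw [if_pos hij] at h2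
    rw [← h2, hmul, hmul, he, he, hT]
  obtain ⟨z, hz⟩ : ∃ z : Fin k, (z : ℕ) = 0 := ⟨⟨0, by omega⟩, rfl⟩
  -- the column of `z`
  have hcol : ∀ n : ℕ, ∀ i : Fin k, (i : ℕ) = n → f (E inc prj i z 1) = E inc prj i z 1 := by
    intro n
    induction n with
    | zero =>
      intro i hi
      have : i = z := Fin.ext (by rw [hi, hz])
      rw [this, D.e_eq, he]
    | succ n ih =>
      intro i hi
      have hn : n < k := by have := i.2; omega
      have h2 : E inc prj i z 1 = E inc prj i ⟨n, hn⟩ 1 * E inc prj ⟨n, hn⟩ z 1 := by rw [D.mul, one_mul]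
      have h3 := hblk 1 i ⟨n, hn⟩ h1 hi
      simp only [ite_self] at h3
      rw [h2, hmul, h3, ih ⟨n, hn⟩ rfl]
  have hrow : ∀ j : Fin k, f (E inc prj z j 1) = E inc prj z j 1 := by
    intro j
    have h2 : E inc prj z j 1 = E inc prj z j 1 * (E inc prj j z 1 * E inc prj z j 1) := by
      rw [D.mul, D.mul, one_mul, one_mul]
    calc f (E inc prj z j 1) = f (E inc prj z j 1 * e j) := by rw [D.mul_e, if_pos rfl]
      _ = f (E inc prj z j 1) * e j := by rw [hmul, he]
      _ = f (E inc prj z j 1) * (E inc prj j z 1 * E inc prj z j 1) := by rw [D.mul, one_mul, D.e_eq]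
      _ = f (E inc prj z j 1) * f (E inc prj j z 1) * E inc prj z j 1 := by rw [hcol j j rfl, mul_assoc]
      _ = E inc prj z j 1 := by rw [← hmul, D.mul, one_mul, D.e_eq, he, D.e_mul, if_pos rfl]
  obtain ⟨o, ho⟩ : ∃ o : Fin k, (o : ℕ) = z + 1 := ⟨⟨1, by omega⟩, by rw [hz]⟩
  have hcorner : ∀ T : Matrix (Fin d) (Fin d) K, f (sh inc prj T) = sh inc prj T →
      f (E inc prj z z T) = E inc prj z z T := by
    intro T hT
    have h2 := hblk T o z hT ho
    rw [if_pos hz] at h2
    have h3 : E inc prj z z T = E inc prj z o 1 * E inc prj o z T := by rw [D.mul, one_mul]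
    rw [h3, hmul, hrow, h2]
  let G : Subring (Matrix (Fin d) (Fin d) K) :=
    { carrier := {T | f (E inc prj z z T) = E inc prj z z T}
      mul_mem' := by
        intro S T hS hT
        change f (E inc prj z z (S * T)) = E inc prj z z (S * T)
        rw [← D.mul z z z, hmul]
        rw [show f (E inc prj z z S) = _ from hS, show f (E inc prj z z T) = _ from hT]
      one_mem' := by
        change f (E inc prj z z 1) = E inc prj z z 1
        rw [D.e_eq, he]
      add_mem' := by
        intro S T hS hT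
        change f (E inc prj z z (S + T)) = E inc prj z z (S + T)
        rw [E_add, hadd]
        rw [show f (E inc prj z z S) = _ from hS, show f (E inc prj z z T) = _ from hT]
      zero_mem' := by
        change f (E inc prj z z 0) = E inc prj z z 0
        rw [E_zero, hf0]
      neg_mem' := by
        intro S hS
        change f (E inc prj z z (-S)) = E inc prj z z (-S)
        rw [E_neg, hneg]
        rw [show f (E inc prj z z S) = _ from hS] }
  have hG : G = ⊤ := by
    rw [eq_top_iff, ← hgen, Subring.closure_le]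
    rintro T (rfl | rfl)
    · exact hcorner _ hX
    · exact hcorner _ hY
  have hall : ∀ (i j : Fin k) (T : Matrix (Fin d) (Fin d) K), f (E inc prj i j T) = E inc prj i j T := by
    intro i j T
    have h2 : f (E inc prj z z T) = E inc prj z z T := by
      have : T ∈ G := by rw [hG]; trivial
      exact this
    have h3 : E inc prj i j T = E inc prj i z 1 * E inc prj z z T * E inc prj z j 1 := by
      rw [D.mul, D.mul, one_mul, mul_one]
    rw [h3, hmul, hmul, h2, hrow, hcol i i rfl]
  -- all of `R`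
  have hsumf : ∀ (s : Finset (Fin k)) (g : Fin k → R K V), f (∑ i ∈ s, g i) = ∑ i ∈ s, f (g i) := by
    intro s g
    classical
    induction s using Finset.induction_on with
    | empty => simp [hf0]
    | insert a s ha ih => rw [Finset.sum_insert ha, Finset.sum_insert ha, hadd, ih]
  have hZ : Z = ∑ i, ∑ j, e i * Z * e j := by
    calc Z = (∑ i, e i) * Z * ∑ j, e j := by rw [D.sum, one_mul, mul_one]
      _ = ∑ i, ∑ j, e i * Z * e j := by
        rw [Finset.sum_mul, Finset.sum_mul]
        refine Finset.sum_congr rfl fun i _ => ?_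
        rw [Finset.mul_sum]
  rw [hZ, hsumf]
  refine Finset.sum_congr rfl fun i _ => ?_
  rw [hsumf]
  refine Finset.sum_congr rfl fun j _ => ?_
  rw [D.block, hall]

/-- **no anti-automorphisms** -/
theorem Dec.no_anti (D : Dec e inc prj) {z o : Fin k} {f : R K V → R K V}
    (hmul : ∀ X Y, f (X * Y) = f Y * f X) (hz : f (e z) = e o) (ho : f (e o) = e z) {X Y : Matrix (Fin d) (Fin d) K}
    (h1 : f (E inc prj o z 1) = - E inc prj o z 1) (hX : f (E inc prj o z X) = - E inc prj o z X)
    (hY : f (E inc prj o z Y) = - E inc prj o z Y) (hXY : f (E inc prj o z (X * Y)) = - E inc prj o z (X * Y)) :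
    X * Y = Y * X := by
  have hb : f (E inc prj z o 1) = - E inc prj z o 1 := by
    have h2 : f (E inc prj z o 1) * E inc prj o z 1 = - e z := by
      have h3 : f (E inc prj o z 1 * E inc prj z o 1) = e z := by rw [D.mul, one_mul, D.e_eq, ho]
      rw [hmul, h1, mul_neg] at h3
      rw [← h3, neg_neg]
    have h4 : f (E inc prj z o 1) = f (E inc prj z o 1) * e o := by
      have h5 : f (e z * E inc prj z o 1) = f (E inc prj z o 1) := by rw [D.e_mul, if_pos rfl]
      rw [hmul, hz] at h5
      exact h5.symm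
    calc f (E inc prj z o 1) = f (E inc prj z o 1) * (E inc prj o z 1 * E inc prj z o 1) := by
          rw [D.mul, one_mul, D.e_eq]
          exact h4
      _ = - e z * E inc prj z o 1 := by rw [← mul_assoc, h2]
      _ = - E inc prj z o 1 := by rw [neg_mul, D.e_mul, if_pos rfl]
  have h3 : E inc prj o z (X * Y) = E inc prj o z X * E inc prj z o 1 * E inc prj o z Y := by
    rw [D.mul, D.mul, mul_one]
  have h4 : f (E inc prj o z (X * Y)) = - E inc prj o z (Y * X) := by
    rw [h3, hmul, hmul, hX, hY, hb, neg_mul_neg, neg_mul, ← mul_assoc, D.mul, D.mul, mul_one]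
  rw [h4] at hXY
  exact (D.inj o z (neg_injective hXY)).symm

end dec

/-! ### generators of `M_d(K)` -/

theorem exists_gen (K : Type u) [Field K] [Finite K] {d : ℕ} (hd : 1 ≤ d) :
    ∃ X Y : Matrix (Fin d) (Fin d) K, X ≠ 0 ∧ Y ≠ 0 ∧ X * Y ≠ 0 ∧ Subring.closure {X, Y} = ⊤ ∧
      (2 ≤ d → X * Y ≠ Y * X) := by
  obtain ⟨n, rfl⟩ : ∃ n, d = n + 1 := ⟨d - 1, by omega⟩
  obtain ⟨γ, hγ⟩ := IsCyclic.exists_generator (α := Kˣ)
  let P : Matrix (Fin (n + 1)) (Fin (n + 1)) K := fun i j => if i = j + 1 then 1 else 0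
  have hP : ∀ (i j : Fin (n + 1)) (c : K), P * Matrix.single i j c = Matrix.single (i + 1) j c := by
    intro i j c
    ext a b
    rw [Matrix.mul_apply, Finset.sum_eq_single i]
    · simp only [P, Matrix.single_apply]
      by_cases ha : a = i + 1
      · simp [ha]
      · simp [ha, Ne.symm ha]
    · intro l _ hl
      simp [Ne.symm hl]
    · intro h
      exact absurd (Finset.mem_univ _) h
  have hP' : ∀ (i j : Fin (n + 1)) (c : K), Matrix.single i (j + 1) c * P = Matrix.single i j c := by
    intro i j c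
    ext a b
    rw [Matrix.mul_apply, Finset.sum_eq_single (j + 1)]
    · simp only [P, Matrix.single_apply, add_left_inj]
      by_cases ha : i = a <;> by_cases hb : j = b <;> simp [ha, hb]
    · intro l _ hl
      simp [Ne.symm hl]
    · intro h
      exact absurd (Finset.mem_univ _) h
  have hs0 : ∀ (i j : Fin (n + 1)) (c : K), c ≠ 0 → Matrix.single i j c ≠ 0 := by
    intro i j c hc h
    apply hc
    have := congrFun (congrFun h i) j
    simpa using this
  have hP1 : P 1 0 = 1 := by simp [P]
  refine ⟨P, Matrix.single 0 0 (γ : K), ?_, hs0 0 0 _ γ.ne_zero, ?_, ?_, ?_⟩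
  · intro h
    rw [h] at hP1
    simp at hP1
  · rw [hP]
    exact hs0 _ _ _ γ.ne_zero
  · rw [eq_top_iff]
    set G := Subring.closure {P, Matrix.single (0 : Fin (n + 1)) (0 : Fin (n + 1)) (γ : K)} with hG
    have hPG : P ∈ G := Subring.subset_closure (Or.inl rfl)
    have hSG : Matrix.single (0 : Fin (n + 1)) (0 : Fin (n + 1)) (γ : K) ∈ G := Subring.subset_closure (Or.inr rfl)
    -- all matrix units times γ
    have h1 : ∀ i : Fin (n + 1), Matrix.single i (0 : Fin (n + 1)) (γ : K) ∈ G := by
      intro i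
      induction i using Fin.induction with
      | zero => exact hSG
      | succ i ih =>
        have := G.mul_mem hPG ih
        rw [hP] at this
        have h2 : (i.castSucc + 1 : Fin (n + 1)) = i.succ := by simp
        rwa [h2] at this
    have h3 : ∀ i j : Fin (n + 1), Matrix.single i j (γ : K) ∈ G := by
      intro i j
      induction j using Fin.reverseInduction with
      | last =>
        have h2 := G.mul_mem (h1 i) hPG
        have h4 : (0 : Fin (n + 1)) = Fin.last n + 1 := by simp
        rw [h4, hP'] at h2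
        exact h2
      | cast j ih =>
        have h2 := G.mul_mem ih hPG
        have h4 : j.succ = j.castSucc + 1 := by simp
        rw [h4, hP'] at h2
        exact h2
    have h4 : ∀ m : ℕ, ∀ i j : Fin (n + 1), Matrix.single i j ((γ : K) ^ (m + 1)) ∈ G := by
      intro m
      induction m with
      | zero => intro i j; simpa using h3 i j
      | succ m ih =>
        intro i j
        have := G.mul_mem (ih i j) (h3 j j)
        rwa [Matrix.single_mul_single_same, ← pow_succ] at this
    have h5 : ∀ (i j : Fin (n + 1)) (c : K), Matrix.single i j c ∈ G := by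
      intro i j c
      by_cases hc : c = 0
      · rw [hc, Matrix.single_zero]
        exact G.zero_mem
      · obtain ⟨m, hm⟩ : ∃ m : ℕ, γ ^ m = Units.mk0 c hc :=
          (mem_powers_iff_mem_zpowers).2 (hγ (Units.mk0 c hc))
        have h6 : (γ : K) ^ m = c := congrArg Units.val hm
        have h7 : (γ : K) ^ (m + (Nat.card Kˣ - 1) + 1) = c := by
          have : 0 < Nat.card Kˣ := Nat.card_pos
          have h8 : m + (Nat.card Kˣ - 1) + 1 = m + Nat.card Kˣ := by omega
          have h9 : (γ : K) ^ Nat.card Kˣ = 1 := by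
            rw [← Units.val_pow_eq_pow_val, pow_card_eq_one', Units.val_one]
          rw [h8, pow_add, h9, mul_one, h6]
        rw [← h7]
        exact h4 _ i j
    intro Z _
    rw [Matrix.matrix_eq_sum_single Z]
    exact G.sum_mem fun i _ => G.sum_mem fun j _ => h5 i j _
  · intro h2 h
    rw [hP] at h
    have h3 : Matrix.single (0 : Fin (n + 1)) (0 : Fin (n + 1)) (γ : K) * P = Matrix.single 0 (-1) (γ : K) := by
      have := hP' 0 (-1) (γ : K)
      rwa [neg_add_cancel] at this
    rw [h3] at h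
    have h4 := congrFun (congrFun h 1) 0
    have h01 : (0 : Fin (n + 1)) ≠ 1 := by
      intro h5
      have := congrArg Fin.val h5
      rw [Fin.val_one'] at this
      simp at this
      omega
    simp [h01] at h4

/-! ### the statement -/

section step

variable {K : Type u} [Field K] {V : Type v} [AddCommGroup V] [Module K V] {k : ℕ}

theorem map_one_of {f : Equiv.Perm (R K V)} (h : f ∈ RA K V) : f 1 = 1 := by
  obtain ⟨Z, hZ⟩ := f.surjective 1
  rcases h.2 with h | h
  · calc f 1 = f 1 * f Z := by rw [hZ, mul_one]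
      _ = 1 := by rw [← h, one_mul, hZ]
  · calc f 1 = f 1 * f Z := by rw [hZ, mul_one]
      _ = 1 := by rw [← h, mul_one, hZ]

theorem conj_apply (x : (R K V)ˣ) (f : Equiv.Perm (R K V)) (Z : R K V) :
    (cj K V x * f * (cj K V x)⁻¹) Z = x * f ((x⁻¹ : (R K V)ˣ) * Z * x) * (x⁻¹ : (R K V)ˣ) := rfl

theorem step_aut {e : Fin k → R K V} {h : R K V} (H : Shift e h) {x : (R K V)ˣ} (hx : (x : R K V) = 1 + h)
    {f : Equiv.Perm (R K V)} (hadd : ∀ X Y, f (X + Y) = f X + f Y) (hmul : ∀ X Y, f (X * Y) = f X * f Y) (h1 : f 1 = 1)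
    {π π' : Equiv.Perm (Fin k)} (hπ : ∀ i, f (e i) = e (π i))
    (hπ' : ∀ i, (cj K V x * f * (cj K V x)⁻¹) (e i) = e (π' i)) : (∀ i, f (e i) = e i) ∧ f h = h := by
  have e1 : f ((x⁻¹ : (R K V)ˣ) : R K V) * f (x : R K V) = 1 := by rw [← hmul, Units.inv_mul, h1]
  have e2 : f (x : R K V) * f ((x⁻¹ : (R K V)ˣ) : R K V) = 1 := by rw [← hmul, Units.mul_inv, h1]
  refine H.aut f.injective hadd hmul h1 hπ (ρ := π.symm.trans π') (m := x * f ((x⁻¹ : (R K V)ˣ) : R K V)) ?_ ?_
  · rw [← hx, mul_assoc, e1, mul_one]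
  · intro j
    obtain ⟨i, rfl⟩ := π.surjective j
    have h2 := hπ' i
    rw [conj_apply, hmul, hmul, hπ] at h2
    have h3 : π.symm.trans π' (π i) = π' i := by simp
    rw [h3, ← h2]
    have h4 : (x : R K V) * (f ((x⁻¹ : (R K V)ˣ) : R K V) * e (π i) * f (x : R K V)) * ((x⁻¹ : (R K V)ˣ) : R K V) *
        ((x : R K V) * f ((x⁻¹ : (R K V)ˣ) : R K V)) = (x : R K V) * (f ((x⁻¹ : (R K V)ˣ) : R K V) * e (π i)) *
        (f (x : R K V) * ((((x⁻¹ : (R K V)ˣ) : R K V) * (x : R K V)) * f ((x⁻¹ : (R K V)ˣ) : R K V))) := by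
      simp only [mul_assoc]
    rw [h4, Units.inv_mul, one_mul, e2, mul_one, mul_assoc]

theorem step_anti {e : Fin k → R K V} {h : R K V} (H : Shift e h) {x : (R K V)ˣ} (hx : (x : R K V) = 1 + h)
    {f : Equiv.Perm (R K V)} (hadd : ∀ X Y, f (X + Y) = f X + f Y) (hmul : ∀ X Y, f (X * Y) = f Y * f X) (h1 : f 1 = 1)
    {π π' : Equiv.Perm (Fin k)} (hπ : ∀ i, f (e i) = e (π i))
    (hπ' : ∀ i, (cj K V x * f * (cj K V x)⁻¹) (e i) = e (π' i)) (hk : 2 ≤ k) :
    k = 2 ∧ f h = - h ∧ ∀ i, π i ≠ i := by
  have e1 : f ((x⁻¹ : (R K V)ˣ) : R K V) * f (x : R K V) = 1 := by rw [← hmul, Units.mul_inv, h1]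
  refine H.anti hadd f.injective hmul h1 hπ (ρ := π.symm.trans π') (m := x * f (x : R K V)) (by rw [← hx]) ?_ hk
  intro j
  obtain ⟨i, rfl⟩ := π.surjective j
  have h2 := hπ' i
  rw [conj_apply, hmul, hmul, hπ] at h2
  have h3 : π.symm.trans π' (π i) = π' i := by simp
  rw [h3, ← h2]
  have h4 : (x : R K V) * (f (x : R K V) * (e (π i) * f ((x⁻¹ : (R K V)ˣ) : R K V))) * ((x⁻¹ : (R K V)ˣ) : R K V) *
      ((x : R K V) * f (x : R K V)) = (x : R K V) * f (x : R K V) * e (π i) *
      (f ((x⁻¹ : (R K V)ˣ) : R K V) * ((((x⁻¹ : (R K V)ˣ) : R K V) * (x : R K V)) * f (x : R K V))) := by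
    simp only [mul_assoc]
  rw [h4, Units.inv_mul, one_mul, e1, mul_one]

end step

theorem finrank_eq {K : Type u} [Field K] {V : Type v} [AddCommGroup V] [Module K V] {k d : ℕ}
    {e : Fin k → R K V} {inc : Fin k → (Fin d → K) →ₗ[K] V} {prj : Fin k → V →ₗ[K] (Fin d → K)} (D : Dec e inc prj) :
    Module.finrank K V = k * d := by
  classical
  have hpi : ∀ (i : Fin k) (w : Fin d → K), prj i (inc i w) = w := by
    intro i w
    exact congrArg (fun f : (Fin d → K) →ₗ[K] (Fin d → K) => f w) (D.pi i)
  have hpij : ∀ (i j : Fin k) (w : Fin d → K), i ≠ j → prj i (inc j w) = 0 := by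
    intro i j w h
    exact congrArg (fun f : (Fin d → K) →ₗ[K] (Fin d → K) => f w) (D.pij i j h)
  have hip : ∀ (i : Fin k) (v : V), inc i (prj i v) = e i v := by
    intro i v
    exact congrArg (fun f : R K V => f v) (D.ip i)
  let φ : V ≃ₗ[K] (Fin k → Fin d → K) :=
    { toFun := fun v i => prj i v
      map_add' := fun v w => by ext i; simp
      map_smul' := fun a v => by ext i; simp
      invFun := fun w => ∑ i, inc i (w i)
      left_inv := fun v => by
        simp only [hip]
        have := congrArg (fun f : R K V => f v) D.sum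
        simpa using this
      right_inv := fun w => by
        funext i
        simp only [map_sum]
        rw [Finset.sum_eq_single i]
        · exact hpi i _
        · intro j _ hj
          exact hpij i j _ hj.symm
        · intro h
          exact absurd (Finset.mem_univ _) h }
  rw [φ.finrank_eq, Module.finrank_pi_fintype]
  simp

/-- **stabilizers of decompositions** -/
theorem stmtC2 : StmtC2.{u, v} := by
  intro K _ _ V _ _ _ S hS hS2 _ k d e hk hd he hrk hperm
  obtain ⟨inc, prj, D⟩ := exists_dec he hrk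
  obtain ⟨X, Y, hX, hY, hXY, hgen, hne⟩ := exists_gen K hd
  have : Nonempty (Fin d) := ⟨⟨0, hd⟩⟩
  obtain ⟨T, hT⟩ : ∃ T : Fin 4 → Matrix (Fin d) (Fin d) K, T = ![1, X, Y, X * Y] := ⟨_, rfl⟩
  have hT0 : ∀ i, T i ≠ 0 := by
    intro i
    rw [hT]
    fin_cases i
    · exact one_ne_zero
    · exact hX
    · exact hY
    · exact hXY
  have hsh : ∀ i, Shift e (sh inc prj (T i)) := fun i => D.shift hd (hT0 i)
  have hu : ∀ i, ∃ x : (R K V)ˣ, (x : R K V) = 1 + sh inc prj (T i) := fun i =>
    ⟨(hsh i).isNilpotent.isUnit_one_add.unit, rfl⟩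
  choose x hx using hu
  refine ⟨x, fun i => by rw [hx]; exact det_one_add (hsh i).isNilpotent, fun f hf hfx => ?_⟩
  have hRA := hS hf
  have h1 := map_one_of hRA
  obtain ⟨π, hπ⟩ := hperm f hf
  have hπ' : ∀ i, ∃ π' : Equiv.Perm (Fin k), ∀ j, (cj K V (x i) * f * (cj K V (x i))⁻¹) (e j) = e (π' j) := fun i =>
    hperm _ (hfx i)
  have haut : (∀ X Y, f (X * Y) = f X * f Y) → f = 1 := by
    intro hmul
    have h2 : ∀ i, (∀ j, f (e j) = e j) ∧ f (sh inc prj (T i)) = sh inc prj (T i) := by
      intro i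
      obtain ⟨π', h3⟩ := hπ' i
      exact step_aut (hsh i) (hx i) hRA.1 hmul h1 hπ h3
    apply Equiv.ext
    intro Z
    refine D.rigid hk hRA.1 hmul (h2 0).1 (X := X) (Y := Y) ?_ ?_ ?_ hgen Z
    · have := (h2 0).2
      rw [hT] at this
      exact this
    · have := (h2 1).2
      rw [hT] at this
      exact this
    · have := (h2 2).2
      rw [hT] at this
      exact this
  by_cases hn2 : Module.finrank K V = 2
  · exact haut (hS2 hn2 hf).2
  rcases hRA.2 with hmul | hmul
  · exact haut hmul
  exfalso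
  have h2 : ∀ i, k = 2 ∧ f (sh inc prj (T i)) = - sh inc prj (T i) ∧ ∀ j, π j ≠ j := by
    intro i
    obtain ⟨π', h3⟩ := hπ' i
    exact step_anti (hsh i) (hx i) hRA.1 hmul h1 hπ h3 hk
  obtain ⟨hk2, -, hπne⟩ := h2 0
  subst hk2
  have hd2 : 2 ≤ d := by
    by_contra hcon
    have : d = 1 := by omega
    apply hn2
    rw [finrank_eq D, this]
  apply hne hd2
  -- the block
  have hsh1 : ∀ T : Matrix (Fin d) (Fin d) K, sh inc prj T = E inc prj 1 0 T := by
    intro T
    rw [sh, Fin.sum_univ_two]
    simp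
  have hπ0 : π 0 = 1 := by
    have := hπne 0
    omega
  have hπ1 : π 1 = 0 := by
    have := hπne 1
    omega
  have key : ∀ i, f (E inc prj 1 0 (T i)) = - E inc prj 1 0 (T i) := by
    intro i
    rw [← hsh1]
    exact (h2 i).2.1
  refine D.no_anti (z := 0) (o := 1) hmul (by rw [hπ, hπ0]) (by rw [hπ, hπ1]) ?_ ?_ ?_ ?_
  · have := key 0
    rw [hT] at this
    exact this
  · have := key 1
    rw [hT] at this
    exact this
  · have := key 2
    rw [hT] at this
    exact this
  · have := key 3
    rw [hT] at this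
    exact this

end Cfsg.Agent.H393.FC
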